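import Cfsg.Agent.SporStruct.Co3Rank5.CheckA
import Cfsg.Agent.SporStruct.Co3Rank5.CheckB
import Cfsg.Agent.SporStruct.Co3Rank5.CheckC
import Cfsg.Agent.SporStruct.Co3Rank5.CheckD

/-!
The suborbits of Co3 on 11178 vectors.
-/

set_option autoImplicit false

namespace Cfsg.Agent.SporStruct.Co3Rank5

open Cfsg Cfsg.Agent.Leech

theorem sqNorm_negStd : sqNorm (negStd : GolayPt → ℤ) = 32 := by
  show sqNorm (-(std32' : GolayPt → ℤ)) = 32
  decide +kernel

theorem dot_negStd : dotInt (std48 : GolayPt → ℤ) (negStd : GolayPt → ℤ) = -16 := by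
  show dotInt (std48 : GolayPt → ℤ) (-(std32' : GolayPt → ℤ)) = -16
  decide +kernel

/-- The set acted on. -/
def shell (u : leechLattice) : Set leechLattice :=
  {x | sqNorm (x : GolayPt → ℤ) = 32 ∧ dotInt (u : GolayPt → ℤ) (x : GolayPt → ℤ) = -16}

variable {u x : leechLattice}

theorem dot_orbit {r y : leechLattice}
    (hy : y ∈ MulAction.orbit ↥(MulAction.stabilizer Co0 u ⊓ MulAction.stabilizer Co0 x) r)
    (hr : r ∈ shell u) :
    y ∈ shell u ∧ dotInt (x : GolayPt → ℤ) (y : GolayPt → ℤ) = dotInt (x : GolayPt → ℤ) (r : GolayPt → ℤ) := by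
  obtain ⟨g, rfl⟩ := hy
  have h1 : (g : Co0) • u = u := g.2.1
  have h2 : (g : Co0) • x = x := g.2.2
  refine ⟨⟨(sqNorm_smul _ r).trans hr.1, ?_⟩, ?_⟩
  · show dotInt _ (((g : Co0) • r : leechLattice) : GolayPt → ℤ) = _
    have := dotInt_smul (g : Co0) u r
    rw [h1] at this
    exact this.trans hr.2
  · show dotInt _ (((g : Co0) • r : leechLattice) : GolayPt → ℤ) = _
    have := dotInt_smul (g : Co0) x r
    rwa [h2] at this

theorem exists_orbit {root : ℕ} {os : List (ℕ × ℕ)} {n : ℕ} {d : ℤ}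
    (h : certB root os n d = true) {g : Co0} (hu : g • u = std48) (hx : g • x = negStd) :
    ∃ r ∈ shell u, dotInt (x : GolayPt → ℤ) (r : GolayPt → ℤ) = d ∧
      n ≤ (MulAction.orbit ↥(MulAction.stabilizer Co0 u ⊓ MulAction.stabilizer Co0 x) r).ncard := by
  classical
  obtain ⟨r, r1, r2, r3, s, hs, hmem⟩ := orbit_bound h
  have hr : g⁻¹ • r ∈ shell u := by
    refine ⟨(sqNorm_smul _ r).trans r1, ?_⟩
    rw [← dotInt_smul g, hu, smul_inv_smul, r2]
  refine ⟨g⁻¹ • r, hr, by rw [← dotInt_smul g, hx, smul_inv_smul, r3], ?_⟩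
  have hfin : (shell u).Finite := by
    refine Set.finite_of_ncard_ne_zero ?_
    rw [shell, card_hsOrbit codeUnique (by rw [← sqNorm_smul g, hu, sqNorm_std48])]
    norm_num
  rw [← hs, ← Finset.card_image_of_injective s (MulAction.injective g⁻¹), ← Set.ncard_coe_finset]
  refine Set.ncard_le_ncard ?_ (hfin.subset fun y hy => (dot_orbit hy hr).1)
  intro y hy
  obtain ⟨z, hz, rfl⟩ := Finset.mem_image.1 (Finset.mem_coe.1 hy)
  obtain ⟨⟨e, e1, e2⟩, rfl⟩ := hmem z hz
  have e1' : e • std48 = std48 := e1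
  have e2' : e • negStd = negStd := e2
  refine ⟨⟨g⁻¹ * e * g, ?_, ?_⟩, ?_⟩
  · show (g⁻¹ * e * g) • u = u
    rw [mul_smul, mul_smul, hu, e1', inv_smul_eq_iff, hu]
  · show (g⁻¹ * e * g) • x = x
    rw [mul_smul, mul_smul, hx, e2', inv_smul_eq_iff, hx]
  · show (g⁻¹ * e * g) • g⁻¹ • r = g⁻¹ • e • r
    rw [mul_smul, mul_smul, smul_inv_smul]

theorem rank_five (hu : sqNorm (u : GolayPt → ℤ) = 48) (hx : x ∈ shell u) :
    ∃ y₁ ∈ shell u, ∃ y₂ ∈ shell u, ∃ y₃ ∈ shell u, ∃ y₄ ∈ shell u,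
      (MulAction.orbit ↥(MulAction.stabilizer Co0 u ⊓ MulAction.stabilizer Co0 x) y₁).ncard = 352 ∧
      (MulAction.orbit ↥(MulAction.stabilizer Co0 u ⊓ MulAction.stabilizer Co0 x) y₂).ncard = 1100 ∧
      (MulAction.orbit ↥(MulAction.stabilizer Co0 u ⊓ MulAction.stabilizer Co0 x) y₃).ncard = 4125 ∧
      (MulAction.orbit ↥(MulAction.stabilizer Co0 u ⊓ MulAction.stabilizer Co0 x) y₄).ncard = 5600 ∧
      shell u = {x} ∪
        MulAction.orbit ↥(MulAction.stabilizer Co0 u ⊓ MulAction.stabilizer Co0 x) y₁ ∪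
        MulAction.orbit ↥(MulAction.stabilizer Co0 u ⊓ MulAction.stabilizer Co0 x) y₂ ∪
        MulAction.orbit ↥(MulAction.stabilizer Co0 u ⊓ MulAction.stabilizer Co0 x) y₃ ∪
        MulAction.orbit ↥(MulAction.stabilizer Co0 u ⊓ MulAction.stabilizer Co0 x) y₄ := by
  obtain ⟨g, g1, g2⟩ :=
    transitive_hs codeUnique hu hx.1 hx.2 sqNorm_std48 sqNorm_negStd dot_negStd
  obtain ⟨y₁, m1, d1, n1⟩ := exists_orbit treeCheckA g1 g2
  obtain ⟨y₂, m2, d2, n2⟩ := exists_orbit treeCheckB g1 g2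
  obtain ⟨y₃, m3, d3, n3⟩ := exists_orbit treeCheckC g1 g2
  obtain ⟨y₄, m4, d4, n4⟩ := exists_orbit treeCheckD g1 g2
  set O := fun y : leechLattice =>
    MulAction.orbit ↥(MulAction.stabilizer Co0 u ⊓ MulAction.stabilizer Co0 x) y with hO
  have hcard : (shell u).ncard = 11178 := card_hsOrbit codeUnique hu
  have hfin : (shell u).Finite := Set.finite_of_ncard_ne_zero (by omega)
  have sub : ∀ y ∈ shell u, O y ⊆ shell u := fun y hy z hz => (dot_orbit hz hy).1
  have fin : ∀ y ∈ shell u, (O y).Finite := fun y hy => hfin.subset (sub y hy)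
  have disj : ∀ y ∈ shell u, ∀ y' ∈ shell u,
      dotInt (x : GolayPt → ℤ) (y : GolayPt → ℤ) ≠ dotInt (x : GolayPt → ℤ) (y' : GolayPt → ℤ) →
      Disjoint (O y) (O y') := fun y hy y' hy' hne => Set.disjoint_left.2 fun z hz hz' =>
    hne ((dot_orbit hz hy).2.symm.trans (dot_orbit hz' hy').2)
  have dx : ∀ y ∈ shell u, dotInt (x : GolayPt → ℤ) (y : GolayPt → ℤ) ≠ 32 →
      Disjoint ({x} : Set leechLattice) (O y) := fun y hy hne => Set.disjoint_singleton_left.2
    fun hz => hne (by rw [← (dot_orbit hz hy).2, dotInt_self, hx.1])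
  set U := {x} ∪ O y₁ ∪ O y₂ ∪ O y₃ ∪ O y₄ with hU
  have hUsub : U ⊆ shell u := Set.union_subset (Set.union_subset (Set.union_subset (Set.union_subset
    (Set.singleton_subset_iff.2 hx) (sub _ m1)) (sub _ m2)) (sub _ m3)) (sub _ m4)
  have f1 := (Set.finite_singleton x).union (fin _ m1)
  have f2 := f1.union (fin _ m2)
  have f3 := f2.union (fin _ m3)
  have hUc : U.ncard = 1 + (O y₁).ncard + (O y₂).ncard + (O y₃).ncard + (O y₄).ncard := by
    rw [hU, Set.ncard_union_eq _ f3 (fin _ m4), Set.ncard_union_eq _ f2 (fin _ m3),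
      Set.ncard_union_eq _ f1 (fin _ m2),
      Set.ncard_union_eq (dx _ m1 (by omega)) (Set.finite_singleton x) (fin _ m1),
      Set.ncard_singleton]
    · exact Disjoint.union_left (dx _ m2 (by omega)) (disj _ m1 _ m2 (by omega))
    · exact Disjoint.union_left (Disjoint.union_left (dx _ m3 (by omega))
        (disj _ m1 _ m3 (by omega))) (disj _ m2 _ m3 (by omega))
    · exact Disjoint.union_left (Disjoint.union_left (Disjoint.union_left (dx _ m4 (by omega))
        (disj _ m1 _ m4 (by omega))) (disj _ m2 _ m4 (by omega))) (disj _ m3 _ m4 (by omega))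
  have hle := Set.ncard_le_ncard hUsub hfin
  simp only [hO] at n1 n2 n3 n4 hUc ⊢
  refine ⟨y₁, m1, y₂, m2, y₃, m3, y₄, m4, by omega, by omega, by omega, by omega, ?_⟩
  exact (Set.eq_of_subset_of_ncard_le hUsub (by omega) hfin).symm

end Cfsg.Agent.SporStruct.Co3Rank5
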