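import Cfsg.Agent.SporStruct.Co3Rank5.Machine
import Cfsg.Agent.SporStruct.Co3Rank5.DataA

/-!
The certificate of the orbit of length 352.
-/

set_option autoImplicit false

namespace Cfsg.Agent.SporStruct.Co3Rank5

theorem treeCheckA : certB rootA opsA 352 (-8) = true := by decide +kernel

end Cfsg.Agent.SporStruct.Co3Rank5
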