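import Mathlib

/-!
Two permutations of the frame fixing two points, generating their stabiliser in M24.
-/

set_option autoImplicit false

namespace Cfsg.Agent.SporStruct.Co3Rank5

/-- The tables. -/
def permsL : List (List ℕ) := [[0, 2, 4, 6, 8, 10, 12, 14, 16, 18, 20, 22, 1, 3, 5, 7, 9, 11, 13, 15, 17, 19, 21, 23], [0, 18, 6, 3, 2, 21, 1, 5, 16, 12, 7, 19, 8, 9, 17, 15, 13, 11, 4, 22, 10, 20, 14, 23]]

end Cfsg.Agent.SporStruct.Co3Rank5
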