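import Cfsg.Agent.SporStruct.HSU35Checks
import Cfsg.Agent.SporStruct.LeechHS352
import Cfsg.Agent.SporStruct.Co3Rank5.Perms

/-!
Lower bounds for orbits from spanning trees of packed vectors.
-/

set_option autoImplicit false

namespace Cfsg.Agent.SporStruct.Co3Rank5

open Cfsg Cfsg.Agent.Leech CoMatrix
open Cfsg.Agent.Golay (pt idx idx_lt pt_idx idx_pt)

/-- The vector with a given packing. -/
def unpack (k : ℕ) : List ℤ :=
  (List.range 24).map fun i => ((k / 16 ^ i % 16 : ℕ) : ℤ) - 8

theorem digits_unique {a b : ℕ} : ∀ n, (∀ i < n, a / 16 ^ i % 16 = b / 16 ^ i % 16) →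
    a % 16 ^ n = b % 16 ^ n
  | 0, _ => by simp [Nat.mod_one]
  | n + 1, h => by
    rw [Nat.mod_pow_succ, Nat.mod_pow_succ,
      digits_unique n fun i hi => h i (Nat.lt_succ_of_lt hi), h n (Nat.lt_succ_self n)]

theorem unpack_inj {a b : ℕ} (ha : a < 16 ^ 24) (hb : b < 16 ^ 24) (h : unpack a = unpack b) :
    a = b := by
  have := digits_unique (a := a) (b := b) 24 fun i hi => by
    have e := congrArg (fun l => List.getD l i 0) h
    simp only [unpack, getD_range_map _ _ hi] at e
    omega
  rwa [Nat.mod_eq_of_lt ha, Nat.mod_eq_of_lt hb] at this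

/-- The three tables. -/
def gensT : List (List (List ℤ)) := permsL.map permMat ++ [HSU35.tab5]

/-- The pair fixed by the tables. -/
def pairL : List (List ℤ) :=
  [(List.range 24).map fun i => if i = 23 then 5 else 1,
   (List.range 24).map fun i => if i = 23 then -4 else if i = 0 then 4 else 0]

theorem gens_check : checkMap HSU35.tab5 = true ∧ checkMap (transpL HSU35.tab5) = true ∧
    ∀ g : Fin 3, ∀ l ∈ pairL, mapV (gensT.getD g.val []) l = l := by
  decide +kernel

theorem perms_check : ∀ g : Fin 2, Golay.isPermTab (permsL.getD g.val []) = true ∧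
    Golay.checkAut (permsL.getD g.val []) = true ∧
    gensT.getD g.val [] = permMat (permsL.getD g.val []) := by
  decide +kernel

theorem gensT_two : gensT.getD 2 [] = HSU35.tab5 := by decide +kernel

/-- One step of the tree. -/
def edgeB (p : ℕ) (s : ℕ × ℕ) : Bool :=
  decide (s.2 < 16 ^ 24) && if s.1 ≤ 2 then
    (List.range 24).all fun i =>
      Nat.beq (s.2 / 16 ^ ((permsL.getD (s.1 - 1) []).getD i 0) % 16) (p / 16 ^ i % 16)
  else decide (s.1 = 3) && (mapV HSU35.tab5 (unpack p) == unpack s.2)

/-- The depth first traversal. -/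
def runB : List (ℕ × ℕ) → List ℕ → Bool
  | [], _ => true
  | (0, _) :: os, st => runB os st.tail
  | (_ + 1, _) :: _, [] => false
  | (g + 1, k) :: os, p :: st => edgeB p (g + 1, k) && runB os (k :: p :: st)

/-- The vectors reached. -/
def keys : List (ℕ × ℕ) → List ℕ
  | [] => []
  | (0, _) :: os => keys os
  | (_ + 1, k) :: os => k :: keys os

/-- A search tree. -/
inductive KTree where
  | leaf : KTree
  | node : KTree → ℕ → KTree → KTree

/-- Search. -/
def find : KTree → ℕ → Bool
  | .leaf, _ => false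
  | .node l y r, x => if Nat.blt x y then find l x else if Nat.blt y x then find r x else true

/-- Insertion. -/
def ins : KTree → ℕ → KTree
  | .leaf, x => .node .leaf x .leaf
  | .node l y r, x =>
    if Nat.blt x y then .node (ins l x) y r else if Nat.blt y x then .node l y (ins r x)
    else .node l y r

/-- No repetition. -/
def distinctB : List ℕ → KTree → Bool
  | [], _ => true
  | x :: xs, t => !find t x && distinctB xs (ins t x)

theorem find_ins_self : ∀ (t : KTree) (x : ℕ), find (ins t x) x = true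
  | .leaf, x => by simp [ins, find]
  | .node l y r, x => by
    unfold ins
    split_ifs with h h' <;> simp [find, h, find_ins_self, *]

theorem find_ins : ∀ (t : KTree) (x z : ℕ), find t z = true → find (ins t x) z = true
  | .leaf, x, z, h => by simp [find] at h
  | .node l y r, x, z, h => by
    unfold ins
    unfold find at h
    split_ifs with h1 h2 <;> unfold find <;> split_ifs at h ⊢ <;>
      first
        | exact find_ins _ _ _ h
        | exact h
        | rfl

theorem distinctB_spec : ∀ (L : List ℕ) (t : KTree), distinctB L t = true →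
    L.Nodup ∧ ∀ x ∈ L, find t x = false
  | [], _, _ => by simp
  | x :: xs, t, h => by
    simp only [distinctB, Bool.and_eq_true, Bool.not_eq_true'] at h
    obtain ⟨h1, h2⟩ := distinctB_spec xs _ h.2
    refine ⟨List.nodup_cons.2 ⟨fun hx => ?_, h1⟩, ?_⟩
    · exact absurd (find_ins_self t x) (by simp [h2 x hx])
    · intro z hz
      rcases List.mem_cons.1 hz with rfl | hz
      · exact h.1
      · refine Bool.eq_false_iff.2 fun e => ?_
        exact absurd (find_ins t x z e) (by simp [h2 z hz])

theorem dotL_vecL (a b : GolayPt → ℤ) : dotL (vecL a) (vecL b) = dotInt a b := by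
  rw [dotL, vecL, vecL, List.zipWith_map, List.zipWith_self,
    sum_range_eq (fun i => a (pt i) * b (pt i))]
  simp only [pt_idx, dotInt]

/-- Minus the standard minimal vector. -/
noncomputable def negStd : leechLattice := -std32'

theorem vecL_pair : pairL = [vecL (std48 : GolayPt → ℤ), vecL (negStd : GolayPt → ℤ)] := by
  show pairL = [vecL (std48 : GolayPt → ℤ), vecL (-(std32' : GolayPt → ℤ))]
  decide +kernel

/-- The standard Higman-Sims group. -/
noncomputable def hs0 : Subgroup Co0 :=
  MulAction.stabilizer Co0 std48 ⊓ MulAction.stabilizer Co0 negStd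

theorem mem_hs0 {h : Co0} {g : Fin 3} (hr : rows h = gensT.getD g.val []) : h ∈ hs0 := by
  have hfix : ∀ v : leechLattice, vecL (v : GolayPt → ℤ) ∈ pairL → h • v = v := fun v hv =>
    Subtype.ext (vecL_inj (by rw [← mapV_rows, hr]; exact gens_check.2.2 g _ hv))
  exact ⟨hfix _ (by rw [vecL_pair]; simp), hfix _ (by rw [vecL_pair]; simp)⟩

/-- A packed vector is in the orbit. -/
def Reached (r : leechLattice) (k : ℕ) : Prop :=
  ∃ y : leechLattice, y ∈ MulAction.orbit hs0 r ∧ vecL (y : GolayPt → ℤ) = unpack k ∧ k < 16 ^ 24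

theorem reached_edge {r : leechLattice} {p : ℕ} {g k : ℕ} (hp : Reached r p)
    (h : edgeB p (g + 1, k) = true) : Reached r k := by
  simp only [edgeB, Bool.and_eq_true, decide_eq_true_eq, Nat.add_sub_cancel] at h
  obtain ⟨hk, h⟩ := h
  obtain ⟨y, hy, hyv, -⟩ := hp
  suffices ∃ e ∈ hs0, vecL ((e • y : leechLattice) : GolayPt → ℤ) = unpack k by
    obtain ⟨e, he, hev⟩ := this
    refine ⟨e • y, ?_, hev, hk⟩
    obtain ⟨a, rfl⟩ := hy
    exact ⟨⟨e, he⟩ * a, mul_smul _ _ _⟩
  split_ifs at h with hg
  · obtain ⟨c1, c2, c3⟩ := perms_check ⟨g, by omega⟩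
    have ht := Golay.tab_permOf c1
    set σ : M24 := ⟨_, ht.mem_M24 c2⟩
    refine ⟨permHom σ, mem_hs0 (g := ⟨g, by omega⟩) ((rows_permHom (σ := σ) ht).trans c3.symm),
      range_map_congr fun j hj => ?_⟩
    rw [coe_permHom_smul]
    set i := idx (σ.1.symm (pt j)) with hi
    have hli : (permsL.getD g []).getD i 0 = j := by
      rw [← ht i (idx_lt _), hi, pt_idx]
      show idx (σ.1 _) = j
      rw [Equiv.apply_symm_apply, idx_pt hj]
    have hd := Nat.eq_of_beq_eq_true (List.all_eq_true.1 h i (List.mem_range.2 (idx_lt _)))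
    rw [hli] at hd
    have e := congrArg (fun l => List.getD l i 0) hyv
    simp only [vecL, unpack, getD_range_map _ _ (idx_lt _), hi, pt_idx] at e
    show (y : GolayPt → ℤ) (σ.1.symm (pt j)) = _
    rw [e, ← hi, hd]
  · simp only [Bool.and_eq_true, decide_eq_true_eq, beq_iff_eq] at h
    obtain ⟨h3, hm⟩ := h
    obtain ⟨e, her, -⟩ := HSU35.exists_elem_fix gens_check.1 gens_check.2.1
    refine ⟨e, mem_hs0 (g := 2) (her.trans gensT_two.symm), ?_⟩
    rw [← mapV_rows, her, hyv]; exact hm

theorem runB_sound {r : leechLattice} : ∀ (os : List (ℕ × ℕ)) (st : List ℕ), runB os st = true →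
    (∀ p ∈ st, Reached r p) → ∀ k ∈ keys os, Reached r k
  | [], _, _, _ => by simp [keys]
  | (0, _) :: os, st, h, hst =>
    runB_sound os st.tail h fun p hp => hst p (List.mem_of_mem_tail hp)
  | (_ + 1, _) :: _, [], h, _ => by simp [runB] at h
  | (g + 1, k) :: os, p :: st, h, hst => by
    simp only [runB, Bool.and_eq_true] at h
    have hk := reached_edge (hst p List.mem_cons_self) h.1
    have hst' : ∀ q ∈ k :: p :: st, Reached r q := fun q hq =>
      (List.mem_cons.1 hq).elim (fun e => e ▸ hk) (hst q)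
    intro q hq
    rcases List.mem_cons.1 (show q ∈ k :: keys os from hq) with rfl | hq
    · exact hk
    · exact runB_sound os _ h.2 hst' q hq

/-- The certificate of an orbit. -/
def certB (root : ℕ) (os : List (ℕ × ℕ)) (n : ℕ) (d : ℤ) : Bool :=
  inLB (unpack root) && decide (root < 16 ^ 24) &&
    (dotL (unpack root) (unpack root) == 32) &&
    (dotL (pairL.getD 0 []) (unpack root) == -16) &&
    (dotL (pairL.getD 1 []) (unpack root) == d) &&
    runB os [root] && distinctB (root :: keys os) .leaf && ((root :: keys os).length == n)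

theorem orbit_bound {root : ℕ} {os : List (ℕ × ℕ)} {n : ℕ} {d : ℤ}
    (h : certB root os n d = true) :
    ∃ r : leechLattice, sqNorm (r : GolayPt → ℤ) = 32 ∧
      dotInt (std48 : GolayPt → ℤ) (r : GolayPt → ℤ) = -16 ∧
      dotInt (negStd : GolayPt → ℤ) (r : GolayPt → ℤ) = d ∧
      ∃ s : Finset leechLattice, s.card = n ∧ ∀ y ∈ s, y ∈ MulAction.orbit hs0 r := by
  classical
  simp only [certB, Bool.and_eq_true, beq_iff_eq, decide_eq_true_eq] at h
  obtain ⟨⟨⟨⟨⟨⟨⟨hl, hp⟩, hn⟩, hu⟩, ha⟩, hrun⟩, hdis⟩, hlen⟩ := h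
  have h24 : (unpack root).length = 24 := by simp [unpack]
  let r : leechLattice := ⟨vecP (unpack root), (inLB_vecL _).1 (by rw [vecL_vecP h24]; exact hl)⟩
  have hrv : vecL (r : GolayPt → ℤ) = unpack root := vecL_vecP h24
  have hdot : ∀ a b : GolayPt → ℤ, dotL (vecL a) (vecL b) = dotInt a b := dotL_vecL
  have hroot : Reached r root := ⟨r, MulAction.mem_orbit_self _, hrv, hp⟩
  have hall : ∀ k ∈ root :: keys os, Reached r k := fun k hk =>
    (List.mem_cons.1 hk).elim (fun e => e ▸ hroot)
      (runB_sound os [root] hrun (by simpa using hroot) k)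
  refine ⟨r, ?_, ?_, ?_, ?_⟩
  · rw [← dotInt_self, ← hdot, hrv, hn]
  · rw [← hdot, hrv, ← hu, vecL_pair]; rfl
  · rw [← hdot, hrv, ← ha, vecL_pair]; rfl
  · choose y hy1 hy2 hy3 using hall
    let f : {k // k ∈ (root :: keys os).toFinset} → leechLattice := fun k =>
      y k.1 (List.mem_toFinset.1 k.2)
    have hf : Function.Injective f := fun a b e => Subtype.ext (by
      refine unpack_inj (hy3 a.1 (List.mem_toFinset.1 a.2)) (hy3 b.1 (List.mem_toFinset.1 b.2)) ?_
      rw [← hy2 a.1 (List.mem_toFinset.1 a.2), ← hy2 b.1 (List.mem_toFinset.1 b.2)]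
      exact congrArg (fun z : leechLattice => vecL (z : GolayPt → ℤ)) e)
    refine ⟨Finset.univ.image f, ?_, ?_⟩
    · rw [Finset.card_image_of_injective _ hf, Finset.card_univ, Fintype.card_coe,
        List.toFinset_card_of_nodup (distinctB_spec _ _ hdis).1, hlen]
    · intro z hz
      obtain ⟨k, -, rfl⟩ := Finset.mem_image.1 hz
      exact hy1 _ _

end Cfsg.Agent.SporStruct.Co3Rank5
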